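import Cfsg.Prelude.Def_LieTypeChar
import Cfsg.Agent.H524.LinReg
import Cfsg.Agent.KFacts.Unit.Emb
import Cfsg.Agent.H948.UProd
import Cfsg.Agent.H809.SelfCentPSU
import Cfsg.Agent.S0279
import Cfsg.Agent.Lib.Zsigmondy
import Cfsg.Agent.ClassicalGeometry.PSUAutBasic

/-!
# `RegB` in the own characteristic: `PSU n F q₀` (helper755, task 2350 of S4129)
-/

set_option autoImplicit false
set_option linter.unusedSectionVars false

namespace Cfsg.Agent.H755.RegPSU

open Cfsg Matrix Module Cfsg.Agent.LieClassical.HermBasic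
open Cfsg.Agent.LieClassical.HermSiegel (act mat act_mul act_one mat_one mat_mul mat_injective act_def ext_act)
open Cfsg.Agent.KFacts.Unit (emb act_emb_c act_emb_n emb_fix emb_injective)
open Cfsg.Agent.ClassicalGeometry.PSUAutBasic (pr pr_surjective pr_eq_one_iff)
open Cfsg.Agent.H948.UProd (ph card_SU)
open Cfsg.Agent.H524.DirRed Cfsg.Agent.H524.LinReg

universe u

section

variable {F : Type*} [Field F] [Fintype F] {n q : ℕ}

/-- the natural representation -/
def rho (n : ℕ) (F : Type*) [Field F] (q : ℕ) : SU n F q →* Module.End F (Fin n → F) where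
  toFun g := Matrix.toLin' (mat g)
  map_one' := by rw [mat_one, Matrix.toLin'_one]; rfl
  map_mul' g h := by rw [mat_mul, Matrix.toLin'_mul]; rfl

theorem rho_apply (g : SU n F q) (v : Fin n → F) : rho n F q g v = act g v := Matrix.toLin'_apply _ _

theorem rho_injective : Function.Injective (rho n F q) := by
  intro g h hgh
  apply mat_injective
  exact Matrix.toLin'.injective hgh

theorem det_rho (g : SU n F q) : LinearMap.det (rho n F q g) = 1 := by
  show LinearMap.det (Matrix.toLin' (mat g)) = 1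
  rw [LinearMap.det_toLin']
  exact (g : SpecialLinearGroup (Fin n) F).det_coe

theorem prime_dvd (hF : Fintype.card F = q ^ 2) {i : ℕ} (h1 : 1 ≤ i) (h2 : i < n) {r : ℕ} (h : r ∣ ph q i) :
    r ∣ Nat.card (SU n F q) := by
  rw [card_SU hF (by omega)]
  refine dvd_mul_of_dvd_right (h.trans ?_) _
  have := Finset.dvd_prod_of_mem (fun i => ph q (i + 1)) (Finset.mem_range.2 (show i - 1 < n - 1 by omega))
  simpa [Nat.sub_add_cancel h1] using this

/-- The order of `q ^ 2` modulo `r`. -/
theorem order_sq {r m : ℕ} (h : orderOf (q : ZMod r) = 2 * m) : orderOf ((q ^ 2 : ℕ) : ZMod r) = m := by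
  push_cast
  rw [orderOf_pow' _ two_ne_zero, h, Nat.gcd_eq_right (dvd_mul_right 2 m)]
  exact Nat.mul_div_cancel_left m (by norm_num)

/-- A subspace fixed by `emb d g`. -/
theorem le_fx_emb {m d : ℕ} (g : SU m F q) : d ≤ finrank F (fx (rho (m + d) F q) (emb d g)) := by
  let j : (Fin d → F) →ₗ[F] (Fin (m + d) → F) :=
    { toFun := fun w => Fin.append (0 : Fin m → F) w
      map_add' := fun w w' => by
        funext i
        refine Fin.addCases (fun i => ?_) (fun i => ?_) i
        · simp
        · simp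
      map_smul' := fun c w => by
        funext i
        refine Fin.addCases (fun i => ?_) (fun i => ?_) i
        · simp
        · simp }
  have hj : ∀ w, j w ∈ fx (rho (m + d) F q) (emb d g) := by
    intro w
    rw [mem_fx, rho_apply]
    apply emb_fix
    intro i
    exact Fin.append_left _ _ _
  have hi : Function.Injective (LinearMap.codRestrict _ j hj) := by
    intro w w' h
    have h1 : Fin.append (0 : Fin m → F) w = Fin.append (0 : Fin m → F) w' := congrArg Subtype.val h
    funext i
    have := congrFun h1 (Fin.natAdd m i)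
    simpa using this
  have := LinearMap.finrank_le_finrank_of_injective hi
  simpa using this

/-- An element of order `u` fixing a subspace of codimension two. -/
theorem exists_two (hF : Fintype.card F = q ^ 2) (hn : 2 ≤ n) {u : ℕ} (hu : u.Prime) (hu2 : u ∣ q ^ 2 - 1)
    (huF : (u : F) ≠ 0) : ∃ y : SU n F q, orderOf y = u ∧ finrank F (fx (rho n F q) y) + 2 = n := by
  obtain ⟨d, rfl⟩ : ∃ d, n = 2 + d := ⟨n - 2, by omega⟩
  have := Fact.mk hu
  have hfin : Finite (SU 2 F q) := inferInstance
  have hd : u ∣ Nat.card (SU 2 F q) := prime_dvd hF (i := 1) le_rfl (by norm_num) (by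
    rw [ph, if_neg (by decide)]; exact hu2)
  obtain ⟨g, hg⟩ := exists_prime_orderOf_dvd_card' u hd
  refine ⟨emb d g, by rw [orderOf_injective _ emb_injective, hg], ?_⟩
  have h1 := le_fx_emb (d := d) g
  have h2 := fx_two (rho (2 + d) F q) rho_injective (y := emb d g) (det_rho _) (k := u) huF (by
    rw [← map_pow, ← hg, pow_orderOf_eq_one, map_one]) (by
    intro h
    have h3 := emb_injective (h.trans (map_one (emb d)).symm)
    rw [h3, orderOf_one] at hg
    exact hu.one_lt.ne hg)
  rw [Module.finrank_fin_fun] at h2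
  omega

/-- The element `diag (a, a⁻¹, 1, …, 1)`. -/
theorem exists_diag (hF : Fintype.card F = q ^ 2) (hq : 2 ≤ q) (hn : 2 ≤ n) :
    ∃ s : SU n F q, s ^ (q + 1) = 1 ∧ ∀ {u f : ℕ}, u.Prime → orderOf ((Nat.card F : ℕ) : ZMod u) = f → 2 ≤ f →
      ∀ y : SU n F q, orderOf y = u → Commute s y → 2 ≤ finrank F (fx (rho n F q) y) := by
  -- `a`
  obtain ⟨a, ha1, ha2, ha3⟩ : ∃ a : F, a ^ (q + 1) = 1 ∧ a ≠ 1 ∧ a ^ 2 ≠ 1 := by
    obtain ⟨g, hg⟩ := IsCyclic.exists_ofOrder_eq_natCard (α := Fˣ)
    have hc : Nat.card Fˣ = (q - 1) * (q + 1) := by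
      rw [Nat.card_units, Nat.card_eq_fintype_card, hF]
      have := Nat.sq_sub_sq q 1
      rw [one_pow] at this
      rw [this, mul_comm]
    rw [hc] at hg
    have ho : orderOf (g ^ (q - 1)) = q + 1 := by
      rw [orderOf_pow_of_dvd (by omega) (by rw [hg]; exact dvd_mul_right _ _), hg, Nat.mul_div_cancel_left _ (by omega)]
    have hk : ∀ k, (((g ^ (q - 1) : Fˣ) : F)) ^ k = 1 → q + 1 ∣ k := by
      intro k hk
      rw [← ho]
      apply orderOf_dvd_of_pow_eq_one
      apply Units.ext
      rw [Units.val_pow_eq_pow_val, hk, Units.val_one]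
    refine ⟨((g ^ (q - 1) : Fˣ) : F), ?_, ?_, ?_⟩
    · rw [← Units.val_pow_eq_pow_val, ← ho, pow_orderOf_eq_one, Units.val_one]
    · intro h
      have := Nat.le_of_dvd (by norm_num) (hk 1 (by rw [pow_one, h]))
      omega
    · intro h
      have := Nat.le_of_dvd (by norm_num) (hk 2 h)
      omega
  have ha0 : a ≠ 0 := by
    rintro rfl
    rw [zero_pow (by omega)] at ha1
    exact zero_ne_one ha1
  let i0 : Fin n := ⟨0, by omega⟩
  let i1 : Fin n := ⟨1, by omega⟩
  have h01 : i0 ≠ i1 := by intro h; exact absurd (congrArg Fin.val h) (by simp [i0, i1])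
  let d : Fin n → F := fun i => if i = i0 then a else if i = i1 then a⁻¹ else 1
  have hd0 : d i0 = a := if_pos rfl
  have hd1 : d i1 = a⁻¹ := by
    show (if i1 = i0 then a else if i1 = i1 then a⁻¹ else 1) = a⁻¹
    rw [if_neg h01.symm, if_pos rfl]
  have hdi : ∀ i, i ≠ i0 → i ≠ i1 → d i = 1 := by
    intro i h0 h1
    show (if i = i0 then a else if i = i1 then a⁻¹ else 1) = 1
    rw [if_neg h0, if_neg h1]
  have hprod : ∏ i, d i = 1 := by
    have h1 : ∏ i, d i = ∏ i ∈ ({i0, i1} : Finset (Fin n)), d i := by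
      symm
      apply Finset.prod_subset (Finset.subset_univ _)
      intro i _ hi
      rw [Finset.mem_insert, Finset.mem_singleton] at hi
      push Not at hi
      exact hdi i hi.1 hi.2
    rw [h1, Finset.prod_pair h01, hd0, hd1, mul_inv_cancel₀ ha0]
  have hpow : ∀ i, d i ^ (q + 1) = 1 := by
    intro i
    rcases eq_or_ne i i0 with rfl | h0
    · rw [hd0, ha1]
    rcases eq_or_ne i i1 with rfl | h1
    · rw [hd1, inv_pow, ha1, inv_one]
    · rw [hdi i h0 h1, one_pow]
  let s : SU n F q := Cfsg.Agent.LieClassical.SUBasic.suDiag q d hprod hpow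
  have hs : ∀ v i, act s v i = d i * v i := fun v i => Matrix.mulVec_diagonal _ _ _
  have hsk : ∀ k : ℕ, ∀ v i, act (s ^ k) v i = d i ^ k * v i := by
    intro k
    induction k with
    | zero => intro v i; rw [pow_zero, act_one, pow_zero, one_mul]
    | succ k ih => intro v i; rw [pow_succ, act_mul, ih, hs, pow_succ, mul_assoc]
  refine ⟨s, ?_, ?_⟩
  · apply ext_act
    intro v
    funext i
    rw [hsk, hpow, one_mul, act_one]
  · intro u f hu hf hf2 y hy hsy
    have hyu : y ^ u ^ 1 = 1 := by rw [pow_one, ← hy, pow_orderOf_eq_one]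
    -- eigenspaces
    have key : ∀ (i₀ : Fin n), (∀ i, i ≠ i₀ → d i ≠ d i₀) → Pi.single i₀ (1 : F) ∈ fx (rho n F q) y := by
      intro i₀ hi₀
      have h1 := eig_inv (rho n F q) hsy (d i₀)
      have h2 : Module.End.eigenspace (rho n F q s) (d i₀) ≤ Submodule.span F {Pi.single i₀ (1 : F)} := by
        intro v hv
        rw [Module.End.mem_eigenspace_iff, rho_apply] at hv
        rw [Submodule.mem_span_singleton]
        refine ⟨v i₀, ?_⟩
        funext i
        rcases eq_or_ne i i₀ with rfl | hi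
        · simp
        · have h3 := congrFun hv i
          rw [hs, Pi.smul_apply, smul_eq_mul] at h3
          have h4 : (d i - d i₀) * v i = 0 := by rw [sub_mul, h3, sub_self]
          rw [Pi.smul_apply, Pi.single_eq_of_ne hi, smul_zero]
          exact ((mul_eq_zero.1 h4).resolve_left (sub_ne_zero.2 (hi₀ i hi))).symm
      have h3 : finrank F (Module.End.eigenspace (rho n F q s) (d i₀)) ≤ 1 :=
        (Submodule.finrank_mono h2).trans (finrank_span_singleton (by simp)).le
      apply le_fx_of_lt (rho n F q) hu hyu hf (by omega) h1 (by omega)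
      rw [Module.End.mem_eigenspace_iff, rho_apply]
      funext i
      rw [hs, Pi.smul_apply, smul_eq_mul]
      rcases eq_or_ne i i₀ with rfl | hi
      · rfl
      · rw [Pi.single_eq_of_ne hi, mul_zero, mul_zero]
    have hinv : a⁻¹ ≠ 1 := by
      intro h
      exact ha2 (inv_eq_one.1 h)
    have hinv2 : a⁻¹ ≠ a := by
      intro h
      apply ha3
      rw [pow_two]
      nth_rewrite 2 [← h]
      exact mul_inv_cancel₀ ha0
    have e0 := key i0 (fun i hi => by
      rw [hd0]
      rcases eq_or_ne i i1 with rfl | h1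
      · rw [hd1]; exact hinv2
      · rw [hdi i hi h1]; exact ha2.symm)
    have e1 := key i1 (fun i hi => by
      rw [hd1]
      rcases eq_or_ne i i0 with rfl | h1
      · rw [hd0]; exact hinv2.symm
      · rw [hdi i h1 hi]; exact hinv.symm)
    let j : (Fin 2 → F) →ₗ[F] (Fin n → F) :=
      { toFun := fun w => w 0 • Pi.single i0 (1 : F) + w 1 • Pi.single i1 (1 : F)
        map_add' := fun w w' => by
          rw [Pi.add_apply, Pi.add_apply, add_smul, add_smul]; abel
        map_smul' := fun c w => by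
          rw [Pi.smul_apply, Pi.smul_apply, smul_assoc, smul_assoc, ← smul_add, RingHom.id_apply] }
    have hj : ∀ w, j w ∈ fx (rho n F q) y := fun w =>
      Submodule.add_mem _ (Submodule.smul_mem _ _ e0) (Submodule.smul_mem _ _ e1)
    have hi : Function.Injective (LinearMap.codRestrict _ j hj) := by
      intro w w' h
      have h1 : w 0 • Pi.single i0 (1 : F) + w 1 • Pi.single i1 (1 : F) =
          w' 0 • Pi.single i0 (1 : F) + w' 1 • Pi.single i1 (1 : F) := congrArg Subtype.val h
      have h2 := congrFun h1 i0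
      have h3 := congrFun h1 i1
      simp only [Pi.add_apply, Pi.smul_apply, Pi.single_eq_same, Pi.single_eq_of_ne h01, Pi.single_eq_of_ne h01.symm,
        smul_eq_mul, mul_one, mul_zero, add_zero, zero_add] at h2 h3
      funext i
      fin_cases i
      · exact h2
      · exact h3
    have := LinearMap.finrank_le_finrank_of_injective hi
    simpa using this

end

/-- **The generic case.** -/
theorem regB_su {S : Type*} [Group S] [Finite S] {l : ℕ} (hl : l.Prime) {F : Type*} [Field F] [Fintype F] [CharP F l]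
    {n q : ℕ} (hF : Fintype.card F = q ^ 2) (hn : 3 ≤ n) (h32 : ¬ (n = 3 ∧ q = 2)) (h42 : ¬ (n = 4 ∧ q = 2))
    (e : S ≃* PSU n F q) {u : ℕ} (hu : u.Prime) (hul : u ≠ l) (hd : u ∣ Nat.card S) : RegB S l u := by
  have hq : 2 ≤ q := Cfsg.Agent.LieClassical.GUOrder.two_le hF
  have hlf : Fact l.Prime := ⟨hl⟩
  obtain ⟨a, -, ha⟩ := FiniteField.card F l
  have hpl : ∀ {r : ℕ}, r.Prime → r ∣ q → r = l := by
    intro r hr h
    have h1 : r ∣ l ^ (a : ℕ) := by rw [← ha, hF]; exact h.trans (dvd_pow_self q two_ne_zero)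
    exact (Nat.prime_dvd_prime_iff_eq hr hl).1 (hr.dvd_of_dvd_pow h1)
  have hlq : l ∣ q := by
    have h1 : l ∣ q ^ 2 := by rw [← hF, ha]; exact dvd_pow_self l a.ne_zero
    exact hl.dvd_of_dvd_pow h1
  obtain ⟨m, hm1, hm2, hm3⟩ : ∃ m, Odd m ∧ m ≤ n ∧ n ≤ m + 1 := by
    rcases Nat.even_or_odd n with h | h
    · exact ⟨n - 1, Nat.Even.sub_odd (by omega) h odd_one, by omega, by omega⟩
    · exact ⟨n, h, le_rfl, by omega⟩
  have hm4 : 3 ≤ m := by
    obtain ⟨k, hk⟩ := hm1
    omega
  obtain ⟨r, hr, hro⟩ := Cfsg.Agent.Lib.Zsigmondy.exists_prime_orderOf (a := q) (n := 2 * m) hq (by omega) (by omega)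
    (by omega)
  have hrf : Fact r.Prime := ⟨hr⟩
  have hrq : ¬ r ∣ q := by
    intro h
    rw [(ZMod.natCast_eq_zero_iff q r).2 h] at hro
    have h1 : (0 : ZMod r) ^ (2 * m) = 1 := by rw [← hro]; exact pow_orderOf_eq_one _
    rw [zero_pow (by omega)] at h1
    exact zero_ne_one h1
  have hrl : r ≠ l := by rintro rfl; exact hrq hlq
  have hrm : r ∣ ph q (m - 1) := by
    have hev : Even (m - 1) := Nat.Odd.sub_odd hm1 odd_one
    rw [ph, if_pos hev, Nat.sub_add_cancel (by omega), ← ZMod.natCast_eq_zero_iff]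
    push_cast
    have h1 : (q : ZMod r) ^ (2 * m) = 1 := by rw [← hro]; exact pow_orderOf_eq_one _
    have h2 : ((q : ZMod r) ^ m - 1) * ((q : ZMod r) ^ m + 1) = 0 := by
      rw [mul_comm 2 m, pow_mul] at h1
      linear_combination h1
    refine (mul_eq_zero.1 h2).resolve_left fun h3 => ?_
    have h4 := Nat.le_of_dvd (by omega) (orderOf_dvd_of_pow_eq_one (sub_eq_zero.1 h3))
    omega
  have hrX : r ∣ Nat.card (SU n F q) := prime_dvd hF (by omega) (by omega) hrm
  let π : SU n F q →* S := (e.symm : PSU n F q →* S).comp (pr n F q)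
  have hπ : Function.Surjective π := e.symm.surjective.comp pr_surjective
  have hπk : ∀ z, π z = 1 → z ∈ Subgroup.center (SU n F q) := by
    intro z hz
    rw [← pr_eq_one_iff]
    exact e.symm.injective (hz.trans (map_one e.symm).symm)
  have hker : ∀ z, π z = 1 → ∀ x, z * x = x * z := fun z hz x => ((Subgroup.mem_center_iff.1 (hπk z hz)) x).symm
  have hkd : Nat.card π.ker ∣ q + 1 := by
    have h1 : π.ker = Subgroup.center (SU n F q) := by
      apply le_antisymm
      · intro z hz
        exact hπk z hz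
      · intro z hz
        rw [← pr_eq_one_iff] at hz
        show e.symm (pr n F q z) = 1
        rw [hz, map_one]
    rw [h1, S0279.result hF n hn]
    exact Nat.gcd_dvd_right _ _
  have hrk : ¬ r ∣ Nat.card π.ker := by
    intro h
    have h1 := h.trans hkd
    rw [← ZMod.natCast_eq_zero_iff] at h1
    push_cast at h1
    have h2 : (q : ZMod r) ^ 2 = 1 := by linear_combination ((q : ZMod r) - 1) * h1
    have := Nat.le_of_dvd (by norm_num) (orderOf_dvd_of_pow_eq_one h2)
    omega
  have hNc : Nat.card F = q ^ 2 := by rw [Nat.card_eq_fintype_card, hF]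
  have he : orderOf ((Nat.card F : ℕ) : ZMod r) = m := by rw [hNc]; exact order_sq hro
  have hfinV : finrank F (Fin n → F) = n := Module.finrank_fin_fun F
  have hfinX : Finite (SU n F q) := inferInstance
  have huF : (u : F) ≠ 0 := by
    intro h
    exact hul ((Nat.prime_dvd_prime_iff_eq hl hu).1 ((CharP.cast_eq_zero_iff F l u).1 h)).symm
  have hq1 : q ^ 2 - 1 = (q + 1) * (q - 1) := by
    have := Nat.sq_sub_sq q 1
    rwa [one_pow] at this
  by_cases hu2 : u ∣ q ^ 2 - 1
  · obtain ⟨y, hy, hy2⟩ := exists_two (n := n) hF (by omega) hu hu2 huF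
    exact regB_of_mid (ρ := rho n F q) hπ hker rho_injective hl hu hr hrl hrX hrk he (by omega) (y := y) (k := 1)
      (by rw [pow_one, hy]) (by rw [hfinV]; omega) (by omega)
  · obtain ⟨s, hs, H⟩ := exists_diag (n := n) hF hq (by omega)
    obtain ⟨f, hf⟩ : ∃ f, orderOf ((Nat.card F : ℕ) : ZMod u) = f := ⟨_, rfl⟩
    have huf : Fact u.Prime := ⟨hu⟩
    have hf2 : 2 ≤ f := by
      have h0 : ((Nat.card F : ℕ) : ZMod u) ≠ 0 := by
        rw [Ne, ZMod.natCast_eq_zero_iff, hNc]
        intro h
        exact hul (hpl hu (hu.dvd_of_dvd_pow h))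
      have h1 : f ≠ 0 := by
        intro h
        have h2 := orderOf_dvd_of_pow_eq_one (ZMod.pow_card_sub_one_eq_one h0)
        rw [hf, h, zero_dvd_iff] at h2
        have := hu.two_le
        omega
      have h2 : f ≠ 1 := by
        intro h
        rw [h, orderOf_eq_one_iff, hNc] at hf
        apply hu2
        rw [← ZMod.natCast_eq_zero_iff, Nat.cast_sub (Nat.one_le_pow _ _ (by omega)), hf]
        simp
      omega
    refine regB_of_comm (ρ := rho n F q) hπ hker rho_injective hl hu hr hrl hrX hrk he (by omega) hd ?_ hf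
      (by rw [hfinV]; omega) (s := s) ?_ (fun y hy hsy => ?_)
    · intro h
      exact hu2 (h.trans (hkd.trans (by rw [hq1]; exact dvd_mul_right _ _)))
    · intro h
      have h1 : l ∣ q + 1 := h.trans (orderOf_dvd_of_pow_eq_one hs)
      exact hl.one_lt.ne' (Nat.dvd_one.1 ((Nat.dvd_add_right hlq).1 h1))
    · have := H hu hf hf2 y hy hsy
      rw [hfinV]
      omega

/-- **The row `PSU`.** -/
theorem regB_psu {S : Type u} [Group S] [Finite S] [IsSimpleGroup S] {l : ℕ} (h : Cfsg.IsPSUChar l S) {q : ℕ}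
    (hq : q.Prime) (hql : q ≠ l) (hd : q ∣ Nat.card S) : RegB S l q := by
  obtain ⟨F, iF, iF', iC, n, q₀, hF, hn, h32, ⟨e⟩⟩ := h
  have hl : l.Prime := CharP.char_is_prime F l
  by_cases h42 : n = 4 ∧ q₀ = 2
  · obtain ⟨rfl, rfl⟩ := h42
    obtain ⟨R, hR, hRc⟩ := Cfsg.Agent.H809.SelfCent.psu_selfcent 4 2 5 (by decide) F hF
    have hfinR : Finite R := Nat.finite_of_card_ne_zero (by rw [hR]; norm_num)
    have h5 : Fact (Nat.Prime 5) := ⟨by norm_num⟩
    obtain ⟨x, hxR, hx'⟩ : ∃ x ∈ R, orderOf x = 5 := by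
      obtain ⟨x, hx⟩ := exists_prime_orderOf_dvd_card' (G := R) 5 (by rw [hR])
      exact ⟨x, x.2, by rw [Subgroup.orderOf_coe, hx]⟩
    have hzR : Subgroup.zpowers x = R := by
      apply Subgroup.eq_of_le_of_card_ge
      · rw [Subgroup.zpowers_le]
        exact hxR
      · rw [hR, Nat.card_zpowers, hx']
    have hCx : Subgroup.centralizer ({x} : Set (PSU 4 F 2)) = R := by
      rw [← hRc, ← hzR]
      rw [Subgroup.zpowers_eq_closure, Subgroup.centralizer_closure]
    have hfin : Finite (PSU 4 F 2) := Finite.of_equiv S e.toEquiv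
    have hcc : CC (Subgroup.zpowers x) := CC.of_card h5.out hx' (by rw [hCx, hR])
    have hs : IsSimpleGroup (PSU 4 F 2) := MulEquiv.isSimpleGroup e.symm
    have hna : ¬ ∀ a b : PSU 4 F 2, a * b = b * a := by
      intro hc
      have h1 : Subgroup.centralizer ({x} : Set (PSU 4 F 2)) = ⊤ := by
        rw [eq_top_iff]
        intro z _
        rw [Subgroup.mem_centralizer_singleton_iff]
        exact hc _ _
      rw [hCx] at h1
      have h2 : Nat.card (PSU 4 F 2) = 5 := by rw [← hR, h1, Subgroup.card_top]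
      have h3 := Subgroup.card_eq_card_quotient_mul_card_subgroup (Subgroup.center (SU 4 F 2))
      rw [S0279.result hF 4 (by norm_num), show Nat.gcd 4 (2 + 1) = 1 by decide, mul_one] at h3
      have h4 : Nat.card (SU 4 F 2) = 5 := h3.trans h2
      have h6 : 3 ∣ Nat.card (SU 4 F 2) := prime_dvd hF (i := 1) le_rfl (by norm_num) (by
        rw [ph, if_neg (by decide)]; norm_num)
      rw [h4] at h6
      norm_num at h6
    exact (CC.regB hna hcc hl hq (by rwa [← Nat.card_congr e.toEquiv])).congr e.symm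
  · exact regB_su hl hF hn h32 h42 e hq hql hd

end Cfsg.Agent.H755.RegPSU
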